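import Groth.Agent.H63.Tate.FrobGal
import Groth.Agent.H63.GalEnd
import Groth.Agent.H63.TateEnd
import Groth.Agent.H63.PadicRat
import Groth.Agent.H63.Tate.Reduce

/-!
# Isogenies from intertwiners of Tate modules

* `galAct_eq`: any `q`-Frobenius acts on geometric points as the arithmetic Frobenius
* `exists_isogeny`: from intertwiners inverse to each other up to a scalar, an isogeny
* `exists_lattice`: scaling an intertwiner of rational Tate modules
-/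

set_option autoImplicit false
set_option linter.style.haveILetI false
set_option synthInstance.maxHeartbeats 200000

universe u

open CategoryTheory CategoryTheory.Limits MonoidalCategory CartesianMonoidalCategory AlgebraicGeometry
open scoped MonObj GrpObj TensorProduct
open Groth.Agent.Lib

noncomputable section

namespace Groth.Agent.H63.TateCor

/-- A morphism over which appLE and the base map agree is determined. -/
theorem eq_of_appLE {X : Scheme.{u}} (π π' : X ⟶ X) (hle : ∀ U : X.Opens, U ≤ π ⁻¹ᵁ U)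
    (hle' : ∀ U : X.Opens, U ≤ π' ⁻¹ᵁ U)
    (h : ∀ (U : X.Opens), π.appLE U U (hle U) = π'.appLE U U (hle' U)) : π = π' := by
  refine X.affineCover.hom_ext _ _ fun j => ?_
  set f := X.affineCover.f j
  have hU : IsAffineOpen f.opensRange := isAffineOpen_opensRange f
  have e : hU.fromSpec ≫ π = hU.fromSpec ≫ π' := by
    rw [← IsAffineOpen.SpecMap_appLE_fromSpec π hU hU (hle _), ← IsAffineOpen.SpecMap_appLE_fromSpec π' hU hU (hle' _), h]
  have e2 : f = f.isoOpensRange.hom ≫ hU.isoSpec.hom ≫ hU.fromSpec := by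
    rw [IsAffineOpen.fromSpec, Iso.hom_inv_id_assoc, Scheme.Hom.isoOpensRange_hom_ι]
  rw [e2]
  simp only [Category.assoc, e]

variable {k : Type u} [Field k] [Finite k] (Ω : Type u) [Field Ω] [Algebra k Ω] [IsAlgClosure k Ω]

/-- Any `q`-Frobenius acts on geometric points as the arithmetic Frobenius. -/
theorem galAct_eq {A : Over (Spec (CommRingCat.of k))} (πA : A ⟶ A) (hle : ∀ U : A.left.Opens, U ≤ πA.left ⁻¹ᵁ U)
    (happ : ∀ (U : A.left.Opens) (s : Γ(A.left, U)), (πA.left.appLE U U (hle U)).hom s = s ^ Nat.card k)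
    (a : SGA7.pt (K := k) Ω ⟶ A) : SGA7.galAct (Tate.FrobGal.frobΩ k Ω) a = a ≫ πA := by
  obtain ⟨π, -, hle', happ', hπ, -⟩ := Tate.FrobGal.exists_frob_galAct k Ω A
  rw [hπ, show π = πA from Over.OverMorphism.ext (eq_of_appLE _ _ hle' hle fun U =>
    CommRingCat.hom_ext (RingHom.ext fun s => (happ' U s).trans (happ U s).symm))]

variable {Ω} (l : ℕ) [Fact l.Prime] (A B : Over (Spec (CommRingCat.of k)))
  [GrpObj A] [IsCommMonObj A] [IsProper A.hom] [GeometricallyIntegral A.hom]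
  [GrpObj B] [IsCommMonObj B] [IsProper B.hom] [GeometricallyIntegral B.hom]

/-- The Tate module. -/
abbrev TM (Ω : Type u) [Field Ω] [Algebra k Ω] (l : ℕ) [Fact l.Prime] (A : Over (Spec (CommRingCat.of k))) [GrpObj A]
    [IsCommMonObj A] := AbDual.TateMod A l (SGA7.pt (K := k) Ω)

variable (Ω) in
/-- Maps commuting with the arithmetic Frobenius. -/
def Comm (u : TM Ω l A →ₗ[ℤ_[l]] TM Ω l B) : Prop :=
  ∀ (z z' : TM Ω l A), (∀ i, (AbDual.TateMod.component A l (SGA7.pt (K := k) Ω) i z').toMul =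
      SGA7.galAct (Tate.FrobGal.frobΩ k Ω) (AbDual.TateMod.component A l (SGA7.pt (K := k) Ω) i z).toMul) →
    ∀ m, (AbDual.TateMod.component B l (SGA7.pt (K := k) Ω) m (u z')).toMul =
      SGA7.galAct (Tate.FrobGal.frobΩ k Ω) (AbDual.TateMod.component B l (SGA7.pt (K := k) Ω) m (u z)).toMul

variable (Ω) in
/-- The conclusion of the theorem of Tate for `A` and `B`. -/
def TateSpan : Prop :=
  ∀ u, Comm Ω l A B u → u ∈ Submodule.span ℤ_[l] (Set.range (EndAV.Hom.tateMap (A := A) (B := B) l (SGA7.pt (K := k) Ω)))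

variable {l A B}

omit [IsProper A.hom] [GeometricallyIntegral A.hom] [IsProper B.hom] [GeometricallyIntegral B.hom] in
theorem comm_of_comp {πA : A ⟶ A} [IsMonHom πA] {πB : B ⟶ B} [IsMonHom πB]
    (hA : ∀ a : SGA7.pt (K := k) Ω ⟶ A, SGA7.galAct (Tate.FrobGal.frobΩ k Ω) a = a ≫ πA)
    (hB : ∀ a : SGA7.pt (K := k) Ω ⟶ B, SGA7.galAct (Tate.FrobGal.frobΩ k Ω) a = a ≫ πB)
    (u : TM Ω l A →ₗ[ℤ_[l]] TM Ω l B)
    (hu : u ∘ₗ AbDual.tateMapₗ (l := l) (T := SGA7.pt (K := k) Ω) πA =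
      AbDual.tateMapₗ (l := l) (T := SGA7.pt (K := k) Ω) πB ∘ₗ u) : Comm Ω l A B u := by
  intro z z' hz m
  have e : z' = AbDual.tateMapₗ (l := l) (T := SGA7.pt (K := k) Ω) πA z :=
    AbDual.TateMod.ext fun i => congrArg Additive.ofMul ((hz i).trans (hA _))
  rw [e, ← LinearMap.comp_apply, hu, hB]
  rfl

omit [Finite k] [IsAlgClosure k Ω] [IsProper A.hom] [GeometricallyIntegral A.hom] [IsProper B.hom] [GeometricallyIntegral B.hom] in
/-- Elements of the span are congruent to single homomorphisms. -/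
theorem exists_congr {u : TM Ω l A →ₗ[ℤ_[l]] TM Ω l B}
    (hu : u ∈ Submodule.span ℤ_[l] (Set.range (EndAV.Hom.tateMap (A := A) (B := B) l (SGA7.pt (K := k) Ω)))) (N : ℕ) :
    ∃ (φ : EndAV.Hom A B) (r : TM Ω l A →ₗ[ℤ_[l]] TM Ω l B),
      u = EndAV.Hom.tateMap l (SGA7.pt (K := k) Ω) φ + (l : ℤ_[l]) ^ N • r := by
  induction hu using Submodule.span_induction with
  | mem x hx => obtain ⟨φ, rfl⟩ := hx; exact ⟨φ, 0, by rw [smul_zero, add_zero]⟩
  | zero => exact ⟨0, 0, by rw [map_zero, smul_zero, add_zero]⟩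
  | add x y _ _ hx hy =>
    obtain ⟨φ, r, rfl⟩ := hx; obtain ⟨ψ, s, rfl⟩ := hy
    exact ⟨φ + ψ, r + s, by rw [map_add, smul_add]; abel⟩
  | smul a x _ hx =>
    obtain ⟨φ, r, rfl⟩ := hx
    obtain ⟨b, hb⟩ := Ideal.mem_span_singleton.1 (PadicInt.appr_spec N a)
    refine ⟨(a.appr N) • φ, a • r + b • EndAV.Hom.tateMap l (SGA7.pt (K := k) Ω) φ, ?_⟩
    have ha : a = (a.appr N : ℤ_[l]) + (l : ℤ_[l]) ^ N * b := by rw [← hb]; ring
    rw [map_nsmul, smul_add, ← Nat.cast_smul_eq_nsmul ℤ_[l], smul_add, smul_comm a, smul_smul ((l : ℤ_[l]) ^ N) b]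
    conv_lhs => enter [1]; rw [ha, add_smul]
    abel

theorem det_congr {M : Type*} [AddCommGroup M] [Module ℤ_[l] M] [Module.Free ℤ_[l] M] [Module.Finite ℤ_[l] M]
    (f r : Module.End ℤ_[l] M) (N : ℕ) :
    (l : ℤ_[l]) ^ N ∣ LinearMap.det (f + (l : ℤ_[l]) ^ N • r) - LinearMap.det f := by
  classical
  let b := Module.Free.chooseBasis ℤ_[l] M
  rw [← Ideal.mem_span_singleton, ← Ideal.Quotient.eq, ← LinearMap.det_toMatrix b, ← LinearMap.det_toMatrix b,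
    RingHom.map_det, RingHom.map_det]
  congr 1
  ext i j
  simp [Ideal.Quotient.eq_zero_iff_mem.2 (Ideal.mem_span_singleton_self _)]

/-- One side: a left inverse up to a multiple. -/
theorem exists_left (hl : (l : k) ≠ 0) (hAB : TateSpan Ω l A B) (hBA : TateSpan Ω l B A)
    {u : TM Ω l A →ₗ[ℤ_[l]] TM Ω l B} (hu : Comm Ω l A B u) {w : TM Ω l B →ₗ[ℤ_[l]] TM Ω l A} (hw : Comm Ω l B A w)
    {c : ℤ_[l]} (hc : c ≠ 0) (hwu : w ∘ₗ u = c • LinearMap.id) (huw : u ∘ₗ w = c • LinearMap.id) :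
    ∃ (f : A ⟶ B) (_ : IsMonHom f) (v : B ⟶ A) (_ : IsMonHom v) (v' : B ⟶ A) (_ : IsMonHom v') (n n' : ℕ),
      0 < n ∧ 0 < n' ∧ (IsUnit c → ¬ l ∣ n ∧ ¬ l ∣ n') ∧ f ≫ v = (𝟙 A) ^ n ∧ v' ≫ f = (𝟙 B) ^ n' := by
  haveI : IsAlgClosed Ω := IsAlgClosure.isAlgClosed k
  haveI : IsIntegral A.left := GeometricallyIntegral.isIntegral_of_subsingleton A.hom
  haveI : IsIntegral B.left := GeometricallyIntegral.isIntegral_of_subsingleton B.hom
  have hp : l.Prime := Fact.out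
  -- determinants
  obtain ⟨gA, hgA⟩ := AVIsogeny.exists_dim (A := A)
  obtain ⟨gB, hgB⟩ := AVIsogeny.exists_dim (A := B)
  obtain ⟨hfA, hfinA, -⟩ := HomLattice.tate_free_finite Ω A l hl hgA
  obtain ⟨hfB, hfinB, -⟩ := HomLattice.tate_free_finite Ω B l hl hgB
  haveI := hfA; haveI := hfinA; haveI := hfB; haveI := hfinB
  obtain ⟨N, hN1, hNA, hNB⟩ : ∃ N : ℕ, 1 ≤ N ∧ ¬ (l : ℤ_[l]) ^ N ∣ LinearMap.det (w ∘ₗ u) ∧
      ¬ (l : ℤ_[l]) ^ N ∣ LinearMap.det (u ∘ₗ w) := by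
    have h0 : ∀ m : ℕ, c ^ m ≠ 0 := fun m => pow_ne_zero _ hc
    rw [hwu, huw, LinearMap.det_smul, LinearMap.det_smul, LinearMap.det_id, LinearMap.det_id, _root_.mul_one, _root_.mul_one]
    set a := c ^ Module.finrank ℤ_[l] (TM Ω l A)
    set b := c ^ Module.finrank ℤ_[l] (TM Ω l B)
    refine ⟨a.valuation + b.valuation + 1, by omega, fun h => ?_, fun h => ?_⟩
    · rw [← Ideal.mem_span_singleton, PadicInt.mem_span_pow_iff_le_valuation a (h0 _)] at h; omega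
    · rw [← Ideal.mem_span_singleton, PadicInt.mem_span_pow_iff_le_valuation b (h0 _)] at h; omega
  obtain ⟨φ, r, hφ⟩ := exists_congr (hAB u hu) N
  obtain ⟨ψ, s, hψ⟩ := exists_congr (hBA w hw) N
  -- a nonzero constant term
  have key : ∀ (X : Over (Spec (CommRingCat.of k))) [GrpObj X] [IsCommMonObj X] [IsProper X.hom]
      [GeometricallyIntegral X.hom] [Module.Free ℤ_[l] (TM Ω l X)] [Module.Finite ℤ_[l] (TM Ω l X)]
      (F : X ⟶ X) [IsMonHom F] (e : Module.End ℤ_[l] (TM Ω l X)) (he : ¬ (l : ℤ_[l]) ^ N ∣ LinearMap.det e)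
      (r : Module.End ℤ_[l] (TM Ω l X)), e = AbDual.tateMapₗ (l := l) (T := SGA7.pt (K := k) Ω) F + (l : ℤ_[l]) ^ N • r →
      ∃ (n : ℕ) (h : X ⟶ X) (_ : IsMonHom h), 0 < n ∧ (IsUnit (LinearMap.det e) → ¬ l ∣ n) ∧
        F ≫ h = (𝟙 X) ^ n ∧ h ≫ F = (𝟙 X) ^ n := by
    intro X _ _ _ _ _ _ F _ e he r hr
    haveI : IsIntegral X.left := GeometricallyIntegral.isIntegral_of_subsingleton X.hom
    obtain ⟨g, hg⟩ := AVIsogeny.exists_dim (A := X)
    obtain ⟨P, -, -, -, hP⟩ := TateEnd.exists_charpoly Ω hg (EndAV.End.of F)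
    have hP' := hP l hl
    set L := AbDual.tateMapₗ (l := l) (T := SGA7.pt (K := k) Ω) F
    have hdet : LinearMap.det L = (-1) ^ Module.finrank ℤ_[l] (TM Ω l X) * (P.coeff 0 : ℤ_[l]) := by
      rw [LinearMap.det_eq_sign_charpoly_coeff]
      congr 1
      exact (congrArg (fun p => Polynomial.coeff p 0) hP').trans (Polynomial.coeff_map _ _)
    have hcg : (l : ℤ_[l]) ^ N ∣ LinearMap.det e - LinearMap.det L := hr ▸ det_congr L r N
    have hne : P.coeff 0 ≠ 0 := by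
      intro h0
      rw [h0, Int.cast_zero, mul_zero] at hdet
      rw [hdet, sub_zero] at hcg
      exact he hcg
    set φ := EndAV.End.of F
    have h0 := End0Basic.aeval_eq_zero Ω hg φ P hP
    rw [← Polynomial.X_mul_divX_add P, map_add, map_mul, Polynomial.aeval_X, Polynomial.aeval_C, add_eq_zero_iff_eq_neg,
      eq_intCast, ← Int.cast_neg] at h0
    set q := Polynomial.aeval φ P.divX
    have hcomm : q * φ = φ * q := by
      conv_lhs => rw [← Polynomial.aeval_X (R := ℤ) φ]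
      conv_rhs => rw [← Polynomial.aeval_X (R := ℤ) φ]
      rw [← map_mul, ← map_mul, mul_comm]
    obtain ⟨q', hq1, hq2⟩ : ∃ q' : EndAV.End X, q' * φ = ((P.coeff 0).natAbs : EndAV.End X) ∧
        φ * q' = ((P.coeff 0).natAbs : EndAV.End X) := by
      rcases Int.natAbs_eq (P.coeff 0) with h | h
      · refine ⟨-q, ?_, ?_⟩
        · rw [neg_mul, hcomm, h0, Int.cast_neg, neg_neg, ← Int.cast_natCast, ← h]
        · rw [mul_neg, h0, Int.cast_neg, neg_neg, ← Int.cast_natCast, ← h]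
      · refine ⟨q, ?_, ?_⟩
        · rw [hcomm, h0, h, neg_neg, Int.cast_natCast, Int.natAbs_neg, Int.natAbs_natCast]
        · rw [h0, h, neg_neg, Int.cast_natCast, Int.natAbs_neg, Int.natAbs_natCast]
    refine ⟨(P.coeff 0).natAbs, q'.toHom, inferInstance, Int.natAbs_pos.2 hne, fun hu hdvd => ?_, ?_, ?_⟩
    · have h1 : (l : ℤ_[l]) ∣ (P.coeff 0 : ℤ_[l]) := by
        obtain ⟨m, hm⟩ := Int.natCast_dvd.2 hdvd
        exact ⟨(m : ℤ_[l]), by rw [hm]; push_cast; ring⟩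
      have h2 : (l : ℤ_[l]) ∣ LinearMap.det e := by
        have := dvd_add ((dvd_pow_self _ (by omega : N ≠ 0)).trans hcg) (hdet ▸ h1.mul_left _)
        rwa [sub_add_cancel] at this
      exact PadicInt.prime_p.not_unit (isUnit_of_dvd_unit h2 hu)
    · rw [← EndAV.End.toHom_natCast, ← hq1]; rfl
    · rw [← EndAV.End.toHom_natCast, ← hq2]; rfl
  have hcomp : ∀ {X Y Z : Over (Spec (CommRingCat.of k))} [GrpObj X] [IsCommMonObj X] [GrpObj Y] [IsCommMonObj Y]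
      [GrpObj Z] [IsCommMonObj Z] (a : EndAV.Hom X Y) (b : EndAV.Hom Y Z),
      EndAV.Hom.tateMap l (SGA7.pt (K := k) Ω) b ∘ₗ EndAV.Hom.tateMap l (SGA7.pt (K := k) Ω) a =
        AbDual.tateMapₗ (l := l) (T := SGA7.pt (K := k) Ω) (a.toHom ≫ b.toHom) := fun a b =>
    LinearMap.ext fun z => (GalRange.tateMap_comp a.toHom b.toHom z).symm
  have hA' : w ∘ₗ u = AbDual.tateMapₗ (l := l) (T := SGA7.pt (K := k) Ω) (φ.toHom ≫ ψ.toHom) +
      (l : ℤ_[l]) ^ N • (s ∘ₗ u + EndAV.Hom.tateMap l (SGA7.pt (K := k) Ω) ψ ∘ₗ r) := by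
    rw [← hcomp]
    conv_lhs => rw [hψ, LinearMap.add_comp, LinearMap.smul_comp]
    rw [smul_add, hφ]
    simp only [LinearMap.comp_add, LinearMap.comp_smul, smul_add]
    abel
  have hB' : u ∘ₗ w = AbDual.tateMapₗ (l := l) (T := SGA7.pt (K := k) Ω) (ψ.toHom ≫ φ.toHom) +
      (l : ℤ_[l]) ^ N • (r ∘ₗ w + EndAV.Hom.tateMap l (SGA7.pt (K := k) Ω) φ ∘ₗ s) := by
    rw [← hcomp]
    conv_lhs => rw [hφ, LinearMap.add_comp, LinearMap.smul_comp]
    rw [smul_add, hψ]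
    simp only [LinearMap.comp_add, LinearMap.comp_smul, smul_add]
    abel
  obtain ⟨n, h, hh, hn, hnu, h1, -⟩ := key A (φ.toHom ≫ ψ.toHom) _ hNA _ hA'
  obtain ⟨n', h', hh', hn', hnu', -, h2⟩ := key B (ψ.toHom ≫ φ.toHom) _ hNB _ hB'
  haveI := hh; haveI := hh'
  refine ⟨φ.toHom, inferInstance, ψ.toHom ≫ h, inferInstance, h' ≫ ψ.toHom, inferInstance, n, n', hn, hn',
    fun hcu => ⟨hnu ?_, hnu' ?_⟩, ?_, ?_⟩
  · rw [hwu, LinearMap.det_smul, LinearMap.det_id, _root_.mul_one]; exact hcu.pow _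
  · rw [huw, LinearMap.det_smul, LinearMap.det_id, _root_.mul_one]; exact hcu.pow _
  · rw [← h1, Category.assoc]
  · rw [← h2, Category.assoc]

/-- **Isogenies from intertwiners.** -/
theorem exists_isogeny (hl : (l : k) ≠ 0) (hAB : TateSpan Ω l A B) (hBA : TateSpan Ω l B A)
    {u : TM Ω l A →ₗ[ℤ_[l]] TM Ω l B} (hu : Comm Ω l A B u) {w : TM Ω l B →ₗ[ℤ_[l]] TM Ω l A} (hw : Comm Ω l B A w)
    {c : ℤ_[l]} (hc : c ≠ 0) (hwu : w ∘ₗ u = c • LinearMap.id) (huw : u ∘ₗ w = c • LinearMap.id) :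
    ∃ (f : A ⟶ B) (_ : IsMonHom f) (v : B ⟶ A) (_ : IsMonHom v) (n : ℕ),
      0 < n ∧ (IsUnit c → ¬ l ∣ n) ∧ f ≫ v = (𝟙 A) ^ n ∧ v ≫ f = (𝟙 B) ^ n := by
  obtain ⟨f, hf, v, hv, v', hv', n, n', hn, hn', hu', h1, h2⟩ := exists_left hl hAB hBA hu hw hc hwu huw
  haveI := hf; haveI := hv; haveI := hv'
  haveI : IsMonHom (v ^ n') := by
    rw [← Category.comp_id v, ← MonObj.comp_pow]
    haveI := H4.NPowEtale.isMonHom_pow_id A n'
    infer_instance
  refine ⟨f, hf, v ^ n', inferInstance, n * n', Nat.mul_pos hn hn', fun hcu hd =>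
    (Fact.out : l.Prime).dvd_mul.1 hd |>.elim (hu' hcu).1 (hu' hcu).2, ?_, ?_⟩
  · rw [MonObj.comp_pow, h1, pow_mul]
  · have e : (v ≫ f) ^ n' = (v' ≫ f) ^ n := by
      calc (v ≫ f) ^ n' = ((𝟙 B) ^ n') ≫ (v ≫ f) := by rw [MonObj.pow_comp, Category.id_comp]
        _ = (v' ≫ f) ≫ (v ≫ f) := by rw [h2]
        _ = v' ≫ (f ≫ v) ≫ f := by simp only [Category.assoc]
        _ = _ := by rw [h1, MonObj.pow_comp, Category.id_comp, MonObj.comp_pow]
    rw [MonObj.pow_comp, e, h2, ← pow_mul, mul_comm]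

omit [Finite k] [IsAlgClosure k Ω] [IsProper A.hom] [GeometricallyIntegral A.hom] [IsProper B.hom] [GeometricallyIntegral B.hom] in
/-- Scaling a map of rational Tate modules into the lattices. -/
theorem exists_lattice [Module.Free ℤ_[l] (TM Ω l A)] [Module.Finite ℤ_[l] (TM Ω l A)]
    (e : (ℚ_[l] ⊗[ℤ_[l]] TM Ω l A) →ₗ[ℚ_[l]] (ℚ_[l] ⊗[ℤ_[l]] TM Ω l B)) :
    ∃ (a : ℤ_[l]) (u : TM Ω l A →ₗ[ℤ_[l]] TM Ω l B), a ≠ 0 ∧
      u.baseChange ℚ_[l] = algebraMap ℤ_[l] ℚ_[l] a • e := by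
  classical
  let b := Module.Free.chooseBasis ℤ_[l] (TM Ω l A)
  choose a t ha ht using fun i => PadicRat.exists_smul_eq (e (1 ⊗ₜ[ℤ_[l]] b i))
  refine ⟨∏ i, a i, b.constr ℤ_[l] fun i => (∏ j ∈ Finset.univ.erase i, a j) • t i,
    Finset.prod_ne_zero_iff.2 fun i _ => ha i, (Algebra.TensorProduct.basis ℚ_[l] b).ext fun i => ?_⟩
  rw [Algebra.TensorProduct.basis_apply, LinearMap.baseChange_tmul, Module.Basis.constr_basis, LinearMap.smul_apply,
    TensorProduct.tmul_smul, ← ht i, ← algebraMap_smul ℚ_[l] (∏ j ∈ Finset.univ.erase i, a j), smul_smul, ← map_mul,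
    Finset.prod_erase_mul _ _ (Finset.mem_univ i)]

omit [Finite k] [IsAlgClosure k Ω] [IsProper A.hom] [GeometricallyIntegral A.hom] [IsProper B.hom] [GeometricallyIntegral B.hom] in
theorem tateMap_comp_eq_nsmul (u : A ⟶ B) [IsMonHom u] (v : B ⟶ A) [IsMonHom v] {n : ℕ} (h : u ≫ v = (𝟙 A) ^ n) :
    AbDual.tateMapₗ (l := l) (T := SGA7.pt (K := k) Ω) v ∘ₗ AbDual.tateMapₗ (l := l) (T := SGA7.pt (K := k) Ω) u =
      (n : ℤ_[l]) • LinearMap.id := by
  refine LinearMap.ext fun z => ?_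
  rw [LinearMap.comp_apply, LinearMap.smul_apply, LinearMap.id_apply, Nat.cast_smul_eq_nsmul]
  refine AbDual.TateMod.ext fun m => ?_
  refine congrArg Additive.ofMul (?_ : _ = ((z : ℕ → Additive (SGA7.pt (K := k) Ω ⟶ A)) m).toMul ^ n)
  show (_ ≫ u) ≫ v = _
  rw [Category.assoc, h, MonObj.comp_pow, Category.comp_id]

/-- An intertwiner of the rational Tate modules gives an isogeny. -/
theorem exists_isogeny_of_linearEquiv (hl : (l : k) ≠ 0) (hAB : TateSpan Ω l A B) (hBA : TateSpan Ω l B A)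
    {πA : A ⟶ A} [IsMonHom πA] {πB : B ⟶ B} [IsMonHom πB]
    (hA : ∀ a : SGA7.pt (K := k) Ω ⟶ A, SGA7.galAct (Tate.FrobGal.frobΩ k Ω) a = a ≫ πA)
    (hB : ∀ a : SGA7.pt (K := k) Ω ⟶ B, SGA7.galAct (Tate.FrobGal.frobΩ k Ω) a = a ≫ πB)
    [Module.Free ℤ_[l] (TM Ω l A)] [Module.Finite ℤ_[l] (TM Ω l A)]
    [Module.Free ℤ_[l] (TM Ω l B)] [Module.Finite ℤ_[l] (TM Ω l B)]
    (e : (ℚ_[l] ⊗[ℤ_[l]] TM Ω l A) ≃ₗ[ℚ_[l]] (ℚ_[l] ⊗[ℤ_[l]] TM Ω l B))
    (he : (e : (ℚ_[l] ⊗[ℤ_[l]] TM Ω l A) →ₗ[ℚ_[l]] (ℚ_[l] ⊗[ℤ_[l]] TM Ω l B)) ∘ₗ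
        (AbDual.tateMapₗ (l := l) (T := SGA7.pt (K := k) Ω) πA).baseChange ℚ_[l] =
      (AbDual.tateMapₗ (l := l) (T := SGA7.pt (K := k) Ω) πB).baseChange ℚ_[l] ∘ₗ e.toLinearMap) :
    ∃ (f : A ⟶ B) (_ : IsMonHom f) (v : B ⟶ A) (_ : IsMonHom v) (n : ℕ),
      0 < n ∧ True ∧ f ≫ v = (𝟙 A) ^ n ∧ v ≫ f = (𝟙 B) ^ n := by
  obtain ⟨a, u, ha, hu⟩ := exists_lattice e.toLinearMap
  obtain ⟨b, w, hb, hw⟩ := exists_lattice e.symm.toLinearMap
  have inj : ∀ {M N : Type u} [AddCommGroup M] [Module ℤ_[l] M] [AddCommGroup N] [Module ℤ_[l] N] [Module.Free ℤ_[l] N]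
      {f g : M →ₗ[ℤ_[l]] N}, f.baseChange ℚ_[l] = g.baseChange ℚ_[l] → f = g := fun {M N} _ _ _ _ _ {f g} h =>
    LinearMap.ext fun t => Tate.Reduce.one_tmul_injective N (LinearMap.congr_fun h (1 ⊗ₜ[ℤ_[l]] t))
  have he' : e.symm.toLinearMap ∘ₗ (AbDual.tateMapₗ (l := l) (T := SGA7.pt (K := k) Ω) πB).baseChange ℚ_[l] =
      (AbDual.tateMapₗ (l := l) (T := SGA7.pt (K := k) Ω) πA).baseChange ℚ_[l] ∘ₗ e.symm.toLinearMap := by
    refine LinearMap.ext fun x => e.injective ?_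
    have h := LinearMap.congr_fun he (e.symm x)
    simp only [LinearMap.comp_apply, LinearEquiv.coe_coe, LinearEquiv.apply_symm_apply] at h ⊢
    exact h.symm
  obtain ⟨f, hf, v, hv, n, hn, -, e1, e2⟩ := exists_isogeny hl hAB hBA
    (comm_of_comp hA hB u (inj (by
      rw [LinearMap.baseChange_comp, LinearMap.baseChange_comp, hu, LinearMap.smul_comp, LinearMap.comp_smul, he])))
    (comm_of_comp hB hA w (inj (by
      rw [LinearMap.baseChange_comp, LinearMap.baseChange_comp, hw, LinearMap.smul_comp, LinearMap.comp_smul, he'])))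
    (mul_ne_zero hb ha) (inj (by
      rw [LinearMap.baseChange_comp, hu, hw, LinearMap.smul_comp, LinearMap.comp_smul, smul_smul, ← map_mul,
        LinearMap.baseChange_smul, LinearMap.baseChange_id, algebraMap_smul]
      congr 1
      exact LinearMap.ext fun x => e.symm_apply_apply x))
    (inj (by
      rw [LinearMap.baseChange_comp, hu, hw, LinearMap.smul_comp, LinearMap.comp_smul, smul_smul, ← map_mul, mul_comm a b,
        LinearMap.baseChange_smul, LinearMap.baseChange_id, algebraMap_smul]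
      congr 1
      exact LinearMap.ext fun x => e.apply_symm_apply x))
  exact ⟨f, hf, v, hv, n, hn, trivial, e1, e2⟩

/-- Tate modules of Galois equivariantly isomorphic varieties: an isogeny of degree prime to `l`. -/
theorem exists_isogeny_coprime (hl : (l : k) ≠ 0) (hAB : TateSpan Ω l A B) (hBA : TateSpan Ω l B A)
    (e : TM Ω l A ≃ₗ[ℤ_[l]] TM Ω l B) (h1 : Comm Ω l A B e.toLinearMap) (h2 : Comm Ω l B A e.symm.toLinearMap) :
    ∃ (f : A ⟶ B) (_ : IsMonHom f) (v : B ⟶ A) (_ : IsMonHom v) (n : ℕ),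
      0 < n ∧ ¬ l ∣ n ∧ f ≫ v = (𝟙 A) ^ n ∧ v ≫ f = (𝟙 B) ^ n := by
  obtain ⟨f, hf, v, hv, n, hn, hu, e1, e2⟩ := exists_isogeny hl hAB hBA h1 h2 (one_ne_zero (α := ℤ_[l]))
    (by rw [one_smul]; exact LinearMap.ext fun x => e.symm_apply_apply x)
    (by rw [one_smul]; exact LinearMap.ext fun x => e.apply_symm_apply x)
  exact ⟨f, hf, v, hv, n, hn, hu isUnit_one, e1, e2⟩

end Groth.Agent.H63.TateCor
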