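import Groth.Agent.H63.Intertwine

/-!
# Semisimple endomorphisms with the same characteristic polynomial

* `exists_conj`: they are conjugate
* `sum_map_normalizedFactors`: the pairing of factorisations does not see a separable extension of the field
-/

set_option autoImplicit false

universe u v w

open Polynomial UniqueFactorizationMonoid

namespace Groth.Agent.H63.TateCor.Conj

variable {K : Type u} [Field K]

/-- Semisimple endomorphisms with equal characteristic polynomials are conjugate. -/
theorem exists_conj : ∀ (n : ℕ) (V : Type v) [AddCommGroup V] [Module K V] [FiniteDimensional K V]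
    (W : Type v) [AddCommGroup W] [Module K W] [FiniteDimensional K W] (π₁ : Module.End K V) (π₂ : Module.End K W),
    Module.finrank K V = n → π₁.IsSemisimple → π₂.IsSemisimple → π₁.charpoly = π₂.charpoly →
    ∃ e : V ≃ₗ[K] W, ∀ v, e (π₁ v) = π₂ (e v) := by
  classical
  intro n
  induction n using Nat.strong_induction_on with
  | _ n ih =>
    intro V _ _ _ W _ _ _ π₁ π₂ hn h₁ h₂ hc
    have hd : Module.finrank K V = Module.finrank K W := by
      rw [← LinearMap.charpoly_natDegree π₁, hc, LinearMap.charpoly_natDegree]
    rcases Nat.eq_zero_or_pos n with hn0 | hn0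
    · haveI : Subsingleton V := Module.finrank_zero_iff.1 (hn.trans hn0)
      exact ⟨LinearEquiv.ofFinrankEq V W hd, fun v => by rw [Subsingleton.elim (π₁ v) 0, Subsingleton.elim v 0]; simp⟩
    -- a simple invariant subspace
    have hex : ∃ d, ∃ p : Submodule K V, p ∈ π₁.invtSubmodule ∧ p ≠ ⊥ ∧ Module.finrank K p = d :=
      ⟨_, ⊤, fun x _ => trivial, fun h => by
        rw [← finrank_top K V, h, finrank_bot] at hn; omega, rfl⟩
    obtain ⟨p, hp, hpb, hpd⟩ := Nat.find_spec hex
    have hmin : ∀ r : Submodule K p, r ∈ Module.End.invtSubmodule (π₁.restrict hp) → r = ⊥ ∨ r = ⊤ := by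
      intro r hr
      by_contra hcon
      rw [not_or] at hcon
      have hmap : r.map p.subtype ∈ π₁.invtSubmodule := by
        rintro _ ⟨x, hx, rfl⟩
        exact ⟨(π₁.restrict hp) x, hr hx, rfl⟩
      have h := Nat.find_le (h := hex) (n := Module.finrank K (r.map p.subtype))
        ⟨_, hmap, fun h => hcon.1 (Submodule.map_injective_of_injective p.injective_subtype (h.trans (Submodule.map_bot _).symm)), rfl⟩
      rw [← hpd, ← (Submodule.equivMapOfInjective _ p.injective_subtype r).finrank_eq] at h
      exact absurd (Submodule.finrank_lt hcon.2) (not_lt.2 h)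
    haveI : Nontrivial p := Submodule.nontrivial_iff_ne_bot.2 hpb
    obtain ⟨hirr, -⟩ := Intertwine.simple_charpoly (π₁.restrict hp) hmin
    obtain ⟨p', hp', hpp'⟩ := Module.End.isSemisimple_iff.1 h₁ p hp
    have hdvd : (π₁.restrict hp).charpoly ∣ π₂.charpoly := by
      rw [← hc, Intertwine.charpoly_split π₁ hp hp' hpp']; exact dvd_mul_right _ _
    have hcount : 0 < (normalizedFactors π₂.charpoly).count (π₁.restrict hp).charpoly :=
      Multiset.count_pos.2 ((Polynomial.mem_normalizedFactors_iff π₂.charpoly_monic.ne_zero).2
        ⟨hirr, (π₁.restrict hp).charpoly_monic, hdvd⟩)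
    have hC : 0 < Module.finrank K (Intertwine.C (π₁.restrict hp) π₂) := by
      rw [Intertwine.finrank_intertwiners π₂ h₂ _ p _ (h₁.restrict hp) rfl, normalizedFactors_irreducible hirr,
        (π₁.restrict hp).charpoly_monic.normalize_eq_self, Multiset.map_singleton, Multiset.sum_singleton]
      exact Nat.mul_pos hcount hirr.natDegree_pos
    haveI : Nontrivial (Intertwine.C (π₁.restrict hp) π₂) := Module.nontrivial_of_finrank_pos hC
    obtain ⟨⟨h, hh⟩, hne⟩ := exists_ne (0 : Intertwine.C (π₁.restrict hp) π₂)
    rw [Intertwine.mem_C] at hh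
    have hinj : Function.Injective h := by
      refine LinearMap.ker_eq_bot.1 ((hmin _ ?_).resolve_right fun ht => hne (Subtype.ext (LinearMap.ker_eq_top.1 ht)))
      intro x hx
      show h ((π₁.restrict hp) x) = 0
      rw [hh, LinearMap.mem_ker.1 hx, map_zero]
    have hq : LinearMap.range h ∈ Module.End.invtSubmodule π₂ := by
      rintro _ ⟨x, rfl⟩
      exact ⟨(π₁.restrict hp) x, hh x⟩
    obtain ⟨q', hq', hqq'⟩ := Module.End.isSemisimple_iff.1 h₂ (LinearMap.range h) hq
    let e₁ : p ≃ₗ[K] LinearMap.range h := LinearEquiv.ofInjective h hinj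
    have hc1 : (π₂.restrict (p := LinearMap.range h) (q := LinearMap.range h) hq).charpoly = (π₁.restrict hp).charpoly := by
      rw [← LinearEquiv.charpoly_conj e₁ (π₁.restrict hp)]
      congr 1
      refine LinearMap.ext fun y => ?_
      obtain ⟨x, rfl⟩ := e₁.surjective y
      rw [LinearEquiv.conj_apply_apply, LinearEquiv.symm_apply_apply]
      exact Subtype.ext (hh x).symm
    have hc2 : (π₁.restrict hp').charpoly = (π₂.restrict hq').charpoly := by
      have := hc
      rw [Intertwine.charpoly_split π₁ hp hp' hpp', Intertwine.charpoly_split π₂ hq hq' hqq', hc1] at this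
      exact mul_left_cancel₀ (LinearMap.charpoly_monic _).ne_zero this
    have hlt : Module.finrank K p' < n := hn ▸ Submodule.finrank_lt fun ht => hpb (by
      have := hpp'.disjoint; rwa [ht, disjoint_top] at this)
    obtain ⟨e₂, he₂⟩ := ih _ hlt p' q' (π₁.restrict hp') (π₂.restrict hq') rfl (h₁.restrict hp') (h₂.restrict hq') hc2
    let P := Submodule.prodEquivOfIsCompl p p' hpp'
    let Q := Submodule.prodEquivOfIsCompl (LinearMap.range h) q' hqq'
    refine ⟨P.symm ≪≫ₗ (e₁.prodCongr e₂) ≪≫ₗ Q, fun x => ?_⟩
    obtain ⟨⟨y, z⟩, rfl⟩ := P.surjective x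
    have e : π₁ (P (y, z)) = P (π₁.restrict hp y, π₁.restrict hp' z) := by
      show π₁ ((y : V) + z) = (π₁.restrict hp y : V) + (π₁.restrict hp' z : V)
      rw [map_add]; rfl
    rw [e]
    simp only [LinearEquiv.trans_apply, LinearEquiv.symm_apply_apply]
    show (h (π₁.restrict hp y) : W) + (e₂ (π₁.restrict hp' z) : W) = π₂ (h y + (e₂ z : W))
    rw [hh, he₂, map_add]
    rfl

open scoped Classical in
/-- The pairing of two factorisations is unchanged by a separable extension. -/
theorem sum_map_normalizedFactors {L : Type w} [Field L] [Algebra K L] [PerfectField K] (A B : K[X]) (hA : A ≠ 0) (hB : B ≠ 0) :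
    ((normalizedFactors (A.map (algebraMap K L))).map fun Q =>
        (normalizedFactors (B.map (algebraMap K L))).count Q * Q.natDegree).sum =
      ((normalizedFactors A).map fun P => (normalizedFactors B).count P * P.natDegree).sum := by
  induction A using UniqueFactorizationMonoid.induction_on_prime with
  | h₁ => exact absurd rfl hA
  | h₂ a ha =>
    rw [normalizedFactors_of_isUnit ha, normalizedFactors_of_isUnit (show IsUnit (a.map (algebraMap K L)) from ha.map (mapRingHom (algebraMap K L)))]
    simp
  | h₃ a P ha hP ih =>
    rw [Polynomial.map_mul, normalizedFactors_mul (Polynomial.map_ne_zero hP.ne_zero) (Polynomial.map_ne_zero ha),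
      normalizedFactors_mul hP.ne_zero ha, Multiset.map_add, Multiset.sum_add, Multiset.map_add, Multiset.sum_add, ih ha,
      normalizedFactors_irreducible hP.irreducible, Multiset.map_singleton, Multiset.sum_singleton]
    congr 1
    clear ih ha hA a
    have key : ∀ Q ∈ normalizedFactors (P.map (algebraMap K L)),
        (normalizedFactors (B.map (algebraMap K L))).count Q = (normalizedFactors B).count (normalize P) := by
      intro Q hQ
      obtain ⟨hQi, hQm, hQd⟩ := (Polynomial.mem_normalizedFactors_iff (Polynomial.map_ne_zero hP.ne_zero)).1 hQ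
      clear hQ
      induction B using UniqueFactorizationMonoid.induction_on_prime with
      | h₁ => exact absurd rfl hB
      | h₂ b hb =>
        rw [normalizedFactors_of_isUnit hb, normalizedFactors_of_isUnit (show IsUnit (b.map (algebraMap K L)) from hb.map (mapRingHom (algebraMap K L)))]
        simp
      | h₃ b R hb hR ih =>
        rw [Polynomial.map_mul, normalizedFactors_mul (Polynomial.map_ne_zero hR.ne_zero) (Polynomial.map_ne_zero hb),
          normalizedFactors_mul hR.ne_zero hb, Multiset.count_add, Multiset.count_add, ih hb,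
          normalizedFactors_irreducible hR.irreducible, Multiset.count_singleton]
        congr 1
        by_cases hRP : normalize P = normalize R
        · rw [if_pos hRP]
          refine Multiset.count_eq_one_of_mem ?_ ((Polynomial.mem_normalizedFactors_iff
            (Polynomial.map_ne_zero hR.ne_zero)).2 ⟨hQi, hQm, hQd.trans (Polynomial.map_dvd _ (Associated.dvd (normalize_eq_normalize_iff_associated.1 hRP)))⟩)
          exact (squarefree_iff_nodup_normalizedFactors (Polynomial.map_ne_zero hR.ne_zero)).1
            (PerfectField.separable_of_irreducible hR.irreducible).map.squarefree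
        · rw [if_neg hRP, Multiset.count_eq_zero]
          intro hQR
          have hco : IsCoprime P R := (hP.irreducible.coprime_iff_not_dvd).2 fun hd =>
            hRP (normalize_eq_normalize_iff_associated.2 (hP.irreducible.associated_of_dvd hR.irreducible hd))
          have hco' := hco.map (mapRingHom (algebraMap K L))
          exact hQi.not_isUnit (hco'.isUnit_of_dvd' hQd ((Polynomial.mem_normalizedFactors_iff
            (Polynomial.map_ne_zero hR.ne_zero)).1 hQR).2.2)
    rw [Multiset.map_congr rfl (fun Q hQ => by rw [key Q hQ]), Multiset.sum_map_mul_left,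
      natDegree_eq_of_degree_eq (degree_normalize (p := P))]
    congr 1
    have hd := UniqueFactorizationMonoid.prod_normalizedFactors_eq (Polynomial.map_ne_zero (f := algebraMap K L) hP.ne_zero)
    have h2 := congrArg Polynomial.natDegree hd
    rw [natDegree_eq_of_degree_eq degree_normalize, Polynomial.natDegree_map, Polynomial.natDegree_multiset_prod] at h2
    · exact h2
    · exact zero_notMem_normalizedFactors _

end Groth.Agent.H63.TateCor.Conj
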