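import Groth.Agent.H63.TateCor.Basic
import Groth.Agent.H63.TateCor.Conj
import Groth.Agent.S14943

/-!
# The rank of the group of homomorphisms over a finite field

* `finrank_hom`: it is the dimension of the intertwiners of the Frobenius endomorphisms
* `finrank_hom_eq_sum`
-/

set_option autoImplicit false
set_option linter.style.haveILetI false
set_option synthInstance.maxHeartbeats 200000

universe u

open CategoryTheory CategoryTheory.Limits MonoidalCategory CartesianMonoidalCategory AlgebraicGeometry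
open scoped MonObj GrpObj TensorProduct
open Groth.Agent.Lib

noncomputable section

namespace Groth.Agent.H63.TateCor

variable {k : Type u} [Field k] [Finite k] {Ω : Type u} [Field Ω] [Algebra k Ω] [IsAlgClosure k Ω]
  {l : ℕ} [Fact l.Prime] {A B : Over (Spec (CommRingCat.of k))}
  [GrpObj A] [IsCommMonObj A] [IsProper A.hom] [GeometricallyIntegral A.hom]
  [GrpObj B] [IsCommMonObj B] [IsProper B.hom] [GeometricallyIntegral B.hom]
  [Module.Free ℤ_[l] (TM Ω l A)] [Module.Finite ℤ_[l] (TM Ω l A)]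
  [Module.Free ℤ_[l] (TM Ω l B)] [Module.Finite ℤ_[l] (TM Ω l B)]

variable (Ω l A B) in
/-- Base change of homomorphisms of lattices. -/
def bcH : (TM Ω l A →ₗ[ℤ_[l]] TM Ω l B) →ₗ[ℤ_[l]]
    ((ℚ_[l] ⊗[ℤ_[l]] TM Ω l A) →ₗ[ℚ_[l]] (ℚ_[l] ⊗[ℤ_[l]] TM Ω l B)) :=
  LinearMap.baseChangeHom ℤ_[l] ℚ_[l] _ _

omit [Finite k] [IsAlgClosure k Ω] [IsProper A.hom] [GeometricallyIntegral A.hom] [IsProper B.hom] [GeometricallyIntegral B.hom]
  [Module.Free ℤ_[l] (TM Ω l A)] [Module.Finite ℤ_[l] (TM Ω l A)] [Module.Finite ℤ_[l] (TM Ω l B)] in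
theorem bcH_injective : Function.Injective (bcH Ω l A B) := fun f g h => LinearMap.ext fun t =>
  Tate.Reduce.one_tmul_injective (TM Ω l B) (LinearMap.congr_fun h (1 ⊗ₜ[ℤ_[l]] t))

variable (hl : (l : k) ≠ 0) (hAB : TateSpan Ω l A B) (πA : A ⟶ A) [IsMonHom πA] (πB : B ⟶ B) [IsMonHom πB]
  (hA : ∀ a : SGA7.pt (K := k) Ω ⟶ A, SGA7.galAct (Tate.FrobGal.frobΩ k Ω) a = a ≫ πA)
  (hB : ∀ a : SGA7.pt (K := k) Ω ⟶ B, SGA7.galAct (Tate.FrobGal.frobΩ k Ω) a = a ≫ πB)

include hl hAB hA hB in
/-- The rank of `Hom(A, B)` is the dimension of the intertwiners. -/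
theorem finrank_hom : Module.finrank ℤ (EndAV.Hom A B) = Module.finrank ℚ_[l]
    (Intertwine.C ((AbDual.tateMapₗ (l := l) (T := SGA7.pt (K := k) Ω) πA).baseChange ℚ_[l])
      ((AbDual.tateMapₗ (l := l) (T := SGA7.pt (K := k) Ω) πB).baseChange ℚ_[l])) := by
  haveI : IsAlgClosed Ω := IsAlgClosure.isAlgClosed k
  haveI := HomLattice.moduleFree Ω A B l hl
  haveI := HomLattice.moduleFinite Ω A B l hl
  let b := Module.finBasis ℤ (EndAV.Hom A B)
  have hli := HomLattice.linearIndependent_tateMap Ω A B l hl b b.linearIndependent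
  have hli' : LinearIndependent ℚ_[l] fun i => bcH Ω l A B (EndAV.Hom.tateMap (A := A) (B := B) l (SGA7.pt (K := k) Ω) (b i)) :=
    (LinearIndependent.iff_fractionRing ℤ_[l] ℚ_[l]).1 (hli.map' _ (LinearMap.ker_eq_bot.2 bcH_injective))
  have e : Intertwine.C ((AbDual.tateMapₗ (l := l) (T := SGA7.pt (K := k) Ω) πA).baseChange ℚ_[l])
      ((AbDual.tateMapₗ (l := l) (T := SGA7.pt (K := k) Ω) πB).baseChange ℚ_[l]) =
      Submodule.span ℚ_[l] (Set.range fun i => bcH Ω l A B (EndAV.Hom.tateMap (A := A) (B := B) l (SGA7.pt (K := k) Ω) (b i))) := by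
    refine le_antisymm (fun φ hφ => ?_) (Submodule.span_le.2 ?_)
    · obtain ⟨a, u, ha, hu⟩ := exists_lattice φ
      have hcu : Comm Ω l A B u := comm_of_comp hA hB u (bcH_injective (by
        show (u ∘ₗ _).baseChange ℚ_[l] = (_ ∘ₗ u).baseChange ℚ_[l]
        rw [LinearMap.baseChange_comp, LinearMap.baseChange_comp, hu, LinearMap.smul_comp, LinearMap.comp_smul]
        congr 1
        exact LinearMap.ext fun x => Intertwine.mem_C.1 hφ x))
      have key : ∀ v ∈ Submodule.span ℤ_[l] (Set.range (EndAV.Hom.tateMap (A := A) (B := B) l (SGA7.pt (K := k) Ω))),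
          bcH Ω l A B v ∈ Submodule.span ℚ_[l]
            (Set.range fun i => bcH Ω l A B (EndAV.Hom.tateMap (A := A) (B := B) l (SGA7.pt (K := k) Ω) (b i))) := by
        intro v hv
        induction hv using Submodule.span_induction with
        | mem x hx =>
          obtain ⟨f, rfl⟩ := hx
          have hb : f ∈ Submodule.span ℤ (Set.range b) := by rw [b.span_eq]; trivial
          obtain ⟨c, rfl⟩ := (Submodule.mem_span_range_iff_exists_fun ℤ).1 hb
          rw [map_sum, map_sum]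
          refine Submodule.sum_mem _ fun i _ => ?_
          rw [map_zsmul, map_zsmul, ← Int.cast_smul_eq_zsmul ℚ_[l]]
          exact Submodule.smul_mem _ _ (Submodule.subset_span ⟨i, rfl⟩)
        | zero => rw [map_zero]; exact Submodule.zero_mem _
        | add x y _ _ hx hy => rw [map_add]; exact Submodule.add_mem _ hx hy
        | smul c x _ hx => rw [map_smul, ← algebraMap_smul ℚ_[l] c]; exact Submodule.smul_mem _ _ hx
      have h1 := key u (hAB u hcu)
      rw [show bcH Ω l A B u = u.baseChange ℚ_[l] from rfl, hu] at h1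
      exact (Submodule.smul_mem_iff _ ((map_ne_zero_iff _ (IsFractionRing.injective ℤ_[l] ℚ_[l])).2 ha)).1 h1
    · rintro _ ⟨i, rfl⟩
      set L := (AbDual.tateMapₗ (l := l) (T := SGA7.pt (K := k) Ω) (b i).toHom).baseChange ℚ_[l]
      suffices h : L ∘ₗ (AbDual.tateMapₗ (l := l) (T := SGA7.pt (K := k) Ω) πA).baseChange ℚ_[l] =
          (AbDual.tateMapₗ (l := l) (T := SGA7.pt (K := k) Ω) πB).baseChange ℚ_[l] ∘ₗ L from
        Intertwine.mem_C.2 fun x => LinearMap.congr_fun h x
      rw [← LinearMap.baseChange_comp, ← LinearMap.baseChange_comp]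
      congr 1
      refine LinearMap.ext fun z => AbDual.TateMod.ext fun m => congrArg Additive.ofMul ?_
      show (_ ≫ πA) ≫ (b i).toHom = (_ ≫ (b i).toHom) ≫ πB
      rw [← hA, ← hB]
      exact Category.assoc _ _ _
  rw [e, finrank_span_eq_card hli', Fintype.card_fin]

open scoped Classical in
include hl hAB in
/-- The formula for the rank. -/
theorem finrank_hom_eq_sum (hAb : πA.left.base = 𝟙 _) (hAle : ∀ U : A.left.Opens, U ≤ πA.left ⁻¹ᵁ U)
    (hAapp : ∀ (U : A.left.Opens) (s : Γ(A.left, U)), (πA.left.appLE U U (hAle U)).hom s = s ^ Nat.card k)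
    (hBb : πB.left.base = 𝟙 _) (hBle : ∀ U : B.left.Opens, U ≤ πB.left ⁻¹ᵁ U)
    (hBapp : ∀ (U : B.left.Opens) (s : Γ(B.left, U)), (πB.left.appLE U U (hBle U)).hom s = s ^ Nat.card k) :
    Module.finrank ℤ (EndAV.Hom A B) =
      ∑ P ∈ (UniqueFactorizationMonoid.normalizedFactors
          ((AbDual.tateMapₗ (l := l) (T := SGA7.pt (K := k) Ω) πA).baseChange ℚ_[l]).charpoly).toFinset,
        (UniqueFactorizationMonoid.normalizedFactors
          ((AbDual.tateMapₗ (l := l) (T := SGA7.pt (K := k) Ω) πA).baseChange ℚ_[l]).charpoly).count P *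
        (UniqueFactorizationMonoid.normalizedFactors
          ((AbDual.tateMapₗ (l := l) (T := SGA7.pt (K := k) Ω) πB).baseChange ℚ_[l]).charpoly).count P * P.natDegree := by
  rw [finrank_hom hl hAB πA πB (galAct_eq Ω πA hAle hAapp) (galAct_eq Ω πB hBle hBapp)]
  exact Intertwine.finrank_eq_sum _ _ (S14943.result k Ω l hl A πA hAb hAle hAapp)
    (S14943.result k Ω l hl B πB hBb hBle hBapp)

end Groth.Agent.H63.TateCor
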