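import Groth.Agent.H63.TateCor.Span
import Groth.Agent.H63.TateCor.Rank
import Groth.Agent.H63.DoubleCentral
import Groth.Agent.H63.End0Basic
import Mathlib.LinearAlgebra.Dual.Lemmas

/-!
# The centre of the endomorphism algebra over a finite field

* `frob_comm`: Frobenius is central
* `toEnd0_mem_qadj`: central endomorphisms lie in `ℚ[π]`
* `center_eq`: the centre is `ℚ[π]`
* `comm_of_squarefree`: a squarefree characteristic polynomial forces commutativity
-/

set_option autoImplicit false
set_option linter.style.haveILetI false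
set_option synthInstance.maxHeartbeats 200000

universe u

open CategoryTheory MonoidalCategory CartesianMonoidalCategory MonObj GrpObj AlgebraicGeometry
open AbVar
open scoped TensorProduct
open Groth.Agent.Lib

noncomputable section

namespace Groth.Agent.H63.TateCor

variable {k : Type u} [Field k] [Finite k] (Ω : Type u) [Field Ω] [Algebra k Ω] [IsAlgClosure k Ω]
  (l : ℕ) [Fact l.Prime] (A : Over (Spec (CommRingCat.of k)))
  [GrpObj A] [IsCommMonObj A] [IsProper A.hom] [GeometricallyIntegral A.hom]

/-- The rational Tate representation. -/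
def rep : EndAV.End A →+* Module.End ℚ_[l] (ℚ_[l] ⊗[ℤ_[l]] TM Ω l A) :=
  (Module.End.baseChangeHom ℤ_[l] ℚ_[l] (TM Ω l A)).toRingHom.comp
    (EndAV.End.tateRep (A := A) l (SGA7.pt (K := k) Ω))

theorem rep_apply (f : EndAV.End A) :
    rep Ω l A f = (AbDual.tateMapₗ (l := l) (T := SGA7.pt (K := k) Ω) f.toHom).baseChange ℚ_[l] := rfl

variable [Module.Free ℤ_[l] (TM Ω l A)] [Module.Finite ℤ_[l] (TM Ω l A)]
variable (hl : (l : k) ≠ 0)

include hl in
theorem linearIndependent_rep {J : Type*} (b : J → EndAV.End A) (hb : LinearIndependent ℤ b) :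
    LinearIndependent ℚ_[l] fun i => rep Ω l A (b i) := by
  haveI : IsAlgClosed Ω := IsAlgClosure.isAlgClosed k
  have h := HomLattice.linearIndependent_tateMap Ω A A l hl b hb
  exact (LinearIndependent.iff_fractionRing ℤ_[l] ℚ_[l]).1
    (h.map' (bcH Ω l A A) (LinearMap.ker_eq_bot.2 bcH_injective))

include hl in
theorem rep_injective : Function.Injective (rep Ω l A) := by
  rw [injective_iff_map_eq_zero]
  intro f hf
  by_contra h
  haveI : IsAlgClosed Ω := IsAlgClosure.isAlgClosed k
  haveI : Module.Free ℤ (EndAV.End A) := End0Basic.moduleFree_finite.1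
  have hli : LinearIndependent ℤ (fun _ : Fin 1 => f) := .of_subsingleton 0 h
  exact (linearIndependent_rep Ω l A hl _ hli).ne_zero 0 hf

variable (π : A ⟶ A) [IsMonHom π] (hb : π.left.base = 𝟙 _) (hle : ∀ U : A.left.Opens, U ≤ π.left ⁻¹ᵁ U)
  (happ : ∀ (U : A.left.Opens) (s : Γ(A.left, U)), (π.left.appLE U U (hle U)).hom s = s ^ Nat.card k)

include Ω hl happ in
omit [Module.Free ℤ_[l] (TM Ω l A)] [Module.Finite ℤ_[l] (TM Ω l A)] in
/-- Frobenius is central. -/
theorem frob_comm [Module.Free ℤ_[l] (TM Ω l A)] [Module.Finite ℤ_[l] (TM Ω l A)] (h : EndAV.End A) :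
    h * EndAV.End.of π = EndAV.End.of π * h := by
  apply rep_injective Ω l A hl
  rw [rep_apply, rep_apply]
  congr 1
  refine LinearMap.ext fun z => AbDual.TateMod.ext fun m => congrArg Additive.ofMul ?_
  show _ ≫ π ≫ h.toHom = _ ≫ h.toHom ≫ π
  rw [← Category.assoc, ← Category.assoc, ← galAct_eq Ω π hle happ, ← galAct_eq Ω π hle happ]
  exact Category.assoc _ _ _

include Ω hl hb happ in
/-- The image of a central endomorphism lies in `ℚ_l[π]`. -/
theorem rep_mem_adjoin (f : EndAV.End A) (hf : ∀ h : EndAV.End A, f * h = h * f) :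
    rep Ω l A f ∈ Algebra.adjoin ℚ_[l] {rep Ω l A (EndAV.End.of π)} := by
  set P := rep Ω l A (EndAV.End.of π) with hP
  have hss : Module.End.IsSemisimple P := S14943.result k Ω l hl A π hb hle happ
  letI : CommRing (Algebra.adjoin ℚ_[l] {P}) := Algebra.adjoinCommRingOfComm ℚ_[l] (by
    rintro a rfl b rfl; rfl)
  haveI : IsArtinianRing (Algebra.adjoin ℚ_[l] {P}) := IsArtinianRing.of_finite ℚ_[l] _
  haveI : IsReduced (Algebra.adjoin ℚ_[l] {P}) := by
    rw [isReduced_iff_pow_one_lt 2 one_lt_two]
    rintro ⟨z, hz⟩ h2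
    exact Subtype.ext (Module.End.eq_zero_of_isNilpotent_isSemisimple
      ⟨2, by simpa using congrArg Subtype.val h2⟩ (hss.of_mem_adjoin_singleton hz))
  haveI : IsSemisimpleRing (Algebra.adjoin ℚ_[l] {P}) := IsArtinianRing.isSemisimpleRing_of_isReduced _
  refine DoubleCentral.mem_range_of_commute _ _ fun c hc => ?_
  -- `c` is in the span of the representation
  have hcP := hc P (Algebra.subset_adjoin rfl)
  obtain ⟨a, u, ha, hu⟩ := exists_lattice c
  have hπ := galAct_eq Ω π hle happ
  have hcu : Comm Ω l A A u := comm_of_comp hπ hπ u (bcH_injective (by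
    show (u ∘ₗ _).baseChange ℚ_[l] = (_ ∘ₗ u).baseChange ℚ_[l]
    rw [LinearMap.baseChange_comp, LinearMap.baseChange_comp, hu, LinearMap.smul_comp, LinearMap.comp_smul]
    congr 1))
  have key : ∀ v ∈ Submodule.span ℤ_[l] (Set.range (EndAV.Hom.tateMap (A := A) (B := A) l (SGA7.pt (K := k) Ω))),
      bcH Ω l A A v * rep Ω l A f = rep Ω l A f * bcH Ω l A A v := by
    intro v hv
    induction hv using Submodule.span_induction with
    | mem x hx =>
      obtain ⟨g, rfl⟩ := hx
      have h := congrArg (rep Ω l A) (hf g)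
      rw [map_mul, map_mul] at h
      exact h.symm
    | zero => rw [map_zero, zero_mul, mul_zero]
    | add x y _ _ hx hy => rw [map_add, add_mul, mul_add, hx, hy]
    | smul t x _ hx => rw [map_smul, smul_mul_assoc, mul_smul_comm, hx]
  have h1 := key u (tateSpan hl A A u hcu)
  rw [show bcH Ω l A A u = u.baseChange ℚ_[l] from rfl, hu, smul_mul_assoc, mul_smul_comm] at h1
  exact smul_right_injective _ ((map_ne_zero_iff _ (IsFractionRing.injective ℤ_[l] ℚ_[l])).2 ha) h1

include Ω hl hb happ in
/-- **Central endomorphisms lie in `ℚ[π]`.** -/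
theorem toEnd0_mem_qadj (f : EndAV.End A) (hf : ∀ h : EndAV.End A, f * h = h * f) :
    EndAV.toEnd0 f ∈ EndAV.QAdj (EndAV.End.of π) := by
  haveI : IsAlgClosed Ω := IsAlgClosure.isAlgClosed k
  classical
  by_contra hn
  obtain ⟨ψ, hψ, hψ0⟩ := Submodule.exists_dual_map_eq_bot_of_notMem
    (p := Subalgebra.toSubmodule (EndAV.QAdj (EndAV.End.of π))) hn inferInstance
  haveI : Module.Free ℤ (EndAV.End A) := End0Basic.moduleFree_finite.1
  let b := Module.Free.chooseBasis ℤ (EndAV.End A)
  have hli := linearIndependent_rep Ω l A hl b b.linearIndependent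
  let B := Module.Basis.sumExtend hli
  obtain ⟨L, hL⟩ : ∃ L : Module.End ℚ_[l] (ℚ_[l] ⊗[ℤ_[l]] TM Ω l A) →ₗ[ℚ_[l]] ℚ_[l],
      ∀ i, L (rep Ω l A (b i)) = ((ψ (EndAV.toEnd0 (b i)) : ℚ) : ℚ_[l]) := by
    let L₀ : Submodule.span ℚ_[l] (Set.range fun i => rep Ω l A (b i)) →ₗ[ℚ_[l]] ℚ_[l] :=
      (Module.Basis.span hli).constr ℚ_[l] fun i => ((ψ (EndAV.toEnd0 (b i)) : ℚ) : ℚ_[l])
    obtain ⟨L, hL⟩ := L₀.exists_extend
    refine ⟨L, fun i => ?_⟩
    have h := LinearMap.congr_fun hL (Module.Basis.span hli i)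
    rw [LinearMap.comp_apply, Submodule.subtype_apply, Module.Basis.constr_basis] at h
    rwa [Module.Basis.span_apply] at h
  let φ₁ : EndAV.End A →ₗ[ℤ] ℚ_[l] := (L.toAddMonoidHom.comp (rep Ω l A).toAddMonoidHom).toIntLinearMap
  let φ₂ : EndAV.End A →ₗ[ℤ] ℚ_[l] := ((Rat.castHom ℚ_[l]).toAddMonoidHom.comp
    (ψ.toAddMonoidHom.comp (EndAV.toEnd0 (A := A)).toRingHom.toAddMonoidHom)).toIntLinearMap
  have hφ : φ₁ = φ₂ := b.ext hL
  have hpow : ∀ z ∈ Algebra.adjoin ℚ_[l] {rep Ω l A (EndAV.End.of π)}, L z = 0 := by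
    intro z hz
    rw [Algebra.adjoin_singleton_eq_range_aeval] at hz
    obtain ⟨F, rfl⟩ := hz
    induction F using Polynomial.induction_on' with
    | add p q hp hq =>
      simp only [AlgHom.toRingHom_eq_coe, RingHom.coe_coe] at hp hq ⊢
      rw [map_add, map_add, hp, hq, add_zero]
    | monomial n c =>
      simp only [AlgHom.toRingHom_eq_coe, RingHom.coe_coe]
      rw [Polynomial.aeval_monomial, ← Algebra.smul_def, map_smul, ← map_pow]
      have h : φ₂ (EndAV.End.of π ^ n) = 0 := by
        have h0 : ψ (EndAV.toEnd0 (EndAV.End.of π) ^ n) ∈ (⊥ : Submodule ℚ ℚ) :=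
          hψ0 ▸ Submodule.mem_map_of_mem
            (pow_mem (Algebra.subset_adjoin (R := ℚ) (Set.mem_singleton (EndAV.toEnd0 (EndAV.End.of π)))) n)
        show ((ψ (EndAV.toEnd0 (EndAV.End.of π ^ n)) : ℚ) : ℚ_[l]) = 0
        rw [map_pow, (Submodule.mem_bot ℚ).1 h0, Rat.cast_zero]
      rw [← hφ] at h
      rw [show L (rep Ω l A (EndAV.End.of π ^ n)) = 0 from h, smul_zero]
  refine hψ ?_
  have h : φ₂ f = 0 := by
    rw [← hφ]
    exact hpow _ (rep_mem_adjoin Ω l A hl π hb hle happ f hf)
  exact Rat.cast_eq_zero.1 h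

include Ω hl hb happ in
/-- **The centre is `ℚ[π]`.** -/
theorem center_eq : Subalgebra.center ℚ (EndAV.End0 A) = EndAV.QAdj (EndAV.End.of π) := by
  refine le_antisymm (fun x hx => ?_) (Algebra.adjoin_le ?_)
  · obtain ⟨N, φ, hN, hφ⟩ := End0Basic.exists_smul_eq x
    have h := toEnd0_mem_qadj Ω l A hl π hb hle happ φ fun h => End0Basic.toEnd0_injective (by
      rw [map_mul, map_mul, ← hφ, smul_mul_assoc, mul_smul_comm, Subalgebra.mem_center_iff.1 hx (EndAV.toEnd0 h)])
    rw [← hφ] at h
    have h2 := (EndAV.QAdj (EndAV.End.of π)).smul_mem h (N : ℚ)⁻¹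
    rwa [inv_smul_smul₀ (Int.cast_ne_zero.2 hN)] at h2
  · rintro _ rfl
    refine Subalgebra.mem_center_iff.2 fun y => ?_
    obtain ⟨N, φ, hN, hφ⟩ := End0Basic.exists_smul_eq y
    have hN' : (N : ℚ) ≠ 0 := Int.cast_ne_zero.2 hN
    have h := congrArg ((N : ℚ)⁻¹ • ·) (congrArg EndAV.toEnd0 (frob_comm Ω l A hl π hle happ φ))
    simp only [map_mul, ← hφ, smul_mul_assoc, mul_smul_comm, inv_smul_smul₀ hN'] at h
    exact h

universe v w in
/-- Everything commuting with an operator of squarefree characteristic polynomial is a polynomial in it. -/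
theorem mem_adjoin_of_squarefree {K : Type w} [Field K] {V : Type v} [AddCommGroup V] [Module K V]
    [FiniteDimensional K V] (P : Module.End K V) (hss : P.IsSemisimple) (hsf : Squarefree (LinearMap.charpoly P))
    (z : Module.End K V) (hz : z * P = P * z) : z ∈ Algebra.adjoin K {P} := by
  classical
  have hne : LinearMap.charpoly P ≠ 0 := (LinearMap.charpoly_monic P).ne_zero
  have hdvd : LinearMap.charpoly P ∣ minpoly K P := by
    rw [UniqueFactorizationMonoid.dvd_iff_normalizedFactors_le_normalizedFactors hne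
      (minpoly.ne_zero (Algebra.IsIntegral.isIntegral P)),
      Multiset.le_iff_subset ((UniqueFactorizationMonoid.squarefree_iff_nodup_normalizedFactors hne).1 hsf)]
    intro q hq
    have hqi := UniqueFactorizationMonoid.irreducible_of_normalized_factor q hq
    have hqm : q.Monic := by
      rw [← UniqueFactorizationMonoid.normalize_normalized_factor q hq]
      exact Polynomial.monic_normalize hqi.ne_zero
    have hqdvd : q ∣ minpoly K P := by
      by_contra hn
      obtain ⟨a, b, hab⟩ := hqi.coprime_iff_not_dvd.2 hn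
      have hk : LinearMap.ker (Polynomial.aeval P q) = ⊥ := by
        refine (LinearMap.ker_eq_bot').2 fun v hv => ?_
        have h := LinearMap.congr_fun (congrArg (Polynomial.aeval P) hab) v
        rw [map_add, map_mul, map_mul, minpoly.aeval, mul_zero, add_zero, map_one, Module.End.mul_apply, hv,
          map_zero] at h
        exact h.symm
      have hw := Multiset.count_pos.2 hq
      have w := Intertwine.finrank_ker_aeval q hqi hqm _ _ P hss rfl
      rw [hk, finrank_bot] at w
      have := hqi.natDegree_pos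
      have := Nat.mul_pos hw this
      omega
    obtain ⟨q', hq', hqq'⟩ := UniqueFactorizationMonoid.exists_mem_normalizedFactors_of_dvd
      (minpoly.ne_zero (Algebra.IsIntegral.isIntegral P)) hqi hqdvd
    rwa [← UniqueFactorizationMonoid.normalize_normalized_factor q hq, normalize_eq_normalize hqq'.dvd hqq'.symm.dvd,
      UniqueFactorizationMonoid.normalize_normalized_factor q' hq']
  let E := Algebra.adjoin K {P}
  have hdim : Module.finrank K (Intertwine.C P P) ≤ (LinearMap.charpoly P).natDegree := by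
    rw [Intertwine.finrank_eq_sum P P hss hss]
    have hp := UniqueFactorizationMonoid.prod_normalizedFactors_eq hne
    rw [(LinearMap.charpoly_monic P).normalize_eq_self] at hp
    rw [← congrArg Polynomial.natDegree hp, Polynomial.natDegree_multiset_prod _
      (UniqueFactorizationMonoid.zero_notMem_normalizedFactors _), Finset.sum_multiset_map_count]
    refine le_of_eq (Finset.sum_congr (by congr!) fun q hq => ?_)
    have hnd := (UniqueFactorizationMonoid.squarefree_iff_nodup_normalizedFactors hne).1 hsf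
    rw [Multiset.count_eq_one_of_mem hnd (Multiset.mem_toFinset.1 hq)]
    simp
  have hle' : (Subalgebra.toSubmodule E : Submodule K _) ≤ Intertwine.C P P := by
    intro z hz
    have hc : z * P = P * z :=
      ((Algebra.commute_of_mem_adjoin_singleton_of_commute hz (Commute.refl P)).symm).eq
    exact Intertwine.mem_C.2 fun v => LinearMap.congr_fun hc v
  have hge : (LinearMap.charpoly P).natDegree ≤ Module.finrank K E := by
    refine (Polynomial.natDegree_le_of_dvd hdvd (minpoly.ne_zero (Algebra.IsIntegral.isIntegral P))).trans ?_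
    let v : Fin (minpoly K P).natDegree → E := fun i => ⟨P ^ (i : ℕ), pow_mem (Algebra.subset_adjoin (R := K) (Set.mem_singleton P)) _⟩
    have hv : LinearIndependent K v := LinearIndependent.of_comp E.val.toLinearMap (linearIndependent_pow P)
    simpa using hv.fintype_card_le_finrank
  have heq := Submodule.eq_of_le_of_finrank_le hle' (hdim.trans hge)
  show z ∈ Subalgebra.toSubmodule E
  rw [heq, Intertwine.mem_C]
  exact fun v => LinearMap.congr_fun hz v

include Ω hl hb happ in
/-- A squarefree characteristic polynomial forces commutativity. -/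
theorem comm_of_squarefree
    (hsf : Squarefree ((AbDual.tateMapₗ (l := l) (T := SGA7.pt (K := k) Ω) π).baseChange ℚ_[l]).charpoly) :
    ∀ a b : EndAV.End A, a * b = b * a := by
  classical
  have hss : Module.End.IsSemisimple (rep Ω l A (EndAV.End.of π)) := S14943.result k Ω l hl A π hb hle happ
  have hsf' : Squarefree (LinearMap.charpoly (rep Ω l A (EndAV.End.of π))) := by
    rw [show rep Ω l A (EndAV.End.of π) = (AbDual.tateMapₗ (l := l) (T := SGA7.pt (K := k) Ω) π).baseChange ℚ_[l] from rfl]
    convert hsf using 2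
  have hmem : ∀ a : EndAV.End A, rep Ω l A a ∈ Algebra.adjoin ℚ_[l] {rep Ω l A (EndAV.End.of π)} := fun a => by
    refine mem_adjoin_of_squarefree _ hss hsf' _ ?_
    rw [← map_mul, ← map_mul, frob_comm Ω l A hl π hle happ a]
  intro a b
  apply rep_injective Ω l A hl
  rw [map_mul, map_mul]
  exact Algebra.commute_of_mem_adjoin_singleton_of_commute (hmem b)
    (Algebra.commute_of_mem_adjoin_singleton_of_commute (hmem a) (Commute.refl (rep Ω l A (EndAV.End.of π)))).symm

end Groth.Agent.H63.TateCor
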