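import Groth.Agent.H63.SubsetProducts
import Mathlib.Analysis.Complex.Basic

/-!
# Recovering roots of equal modulus from signed power sums of subset products

* `eq_of_prod_one_sub_pow`: two multisets of complex numbers of modulus `r > 1` with equal
  `∏ (1 - a ^ m)` for all `m ≥ 1` are equal
-/

set_option autoImplicit false

noncomputable section

namespace Groth.Agent.H63.TateCor.Recover

/-- The signed sum of `F` over subset products. -/
def T (s : Multiset ℂ) (F : ℂ → ℂ) : ℂ :=
  (s.powerset.map fun I => (-1) ^ Multiset.card I * F I.prod).sum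

theorem T_pow (s : Multiset ℂ) (m : ℕ) : T s (fun z => z ^ m) = (s.map fun a => 1 - a ^ m).prod :=
  (SubsetProducts.prod_one_sub_pow s m).symm

theorem sum_map_finset_sum {α : Type*} (L : Multiset α) (S : Finset ℕ) (f : ℕ → α → ℂ) :
    (L.map fun a => ∑ i ∈ S, f i a).sum = ∑ i ∈ S, (L.map (f i)).sum := by
  induction L using Multiset.induction with
  | empty => simp
  | cons a L ih => simp [ih, Finset.sum_add_distrib]

theorem T_eval (s : Multiset ℂ) (p : Polynomial ℂ) :
    T s (fun z => p.eval z) = ∑ i ∈ Finset.range (p.natDegree + 1), p.coeff i * T s (fun z => z ^ i) := by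
  simp only [T, ← Multiset.sum_map_mul_left]
  rw [← sum_map_finset_sum]
  refine congrArg _ (Multiset.map_congr rfl fun I _ => ?_)
  rw [Polynomial.eval_eq_sum_range, Finset.mul_sum]
  exact Finset.sum_congr rfl fun i _ => mul_left_comm _ _ _

theorem norm_prod_of (s : Multiset ℂ) {r : ℝ} (hs : ∀ a ∈ s, ‖a‖ = r) {I : Multiset ℂ} (hI : I ≤ s) :
    ‖I.prod‖ = r ^ Multiset.card I := by
  induction I using Multiset.induction with
  | empty => simp
  | cons a I ih =>
    rw [Multiset.prod_cons, norm_mul, ih ((Multiset.le_cons_self I a).trans hI), Multiset.card_cons, pow_succ',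
      hs a (Multiset.mem_of_le hI (Multiset.mem_cons_self a I))]

theorem sum_map_ite_eq' {α : Type*} [DecidableEq α] (L : Multiset α) (x : α) (c : ℂ) :
    (L.map fun a => if a = x then c else 0).sum = (L.count x : ℂ) * c := by
  induction L using Multiset.induction with
  | empty => simp
  | cons a L ih =>
    rw [Multiset.map_cons, Multiset.sum_cons, ih, Multiset.count_cons]
    by_cases h : a = x
    · subst h; simp; ring
    · rw [if_neg h, if_neg (Ne.symm h)]; simp

/-- The test polynomial picks out the singletons. -/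
theorem T_test (s : Multiset ℂ) {r : ℝ} (hr : 1 < r) (hs : ∀ a ∈ s, ‖a‖ = r) {z₀ : ℂ} (hz : ‖z₀‖ = r)
    (F : ℂ → ℂ) (hF : ∀ I ∈ s.powerset, I.prod ≠ z₀ → F I.prod = 0) :
    T s F = -(s.count z₀ : ℂ) * F z₀ := by
  classical
  have hg : ∀ I ∈ s.powerset, (-1 : ℂ) ^ Multiset.card I * F I.prod = if I = {z₀} then -F z₀ else 0 := by
    intro I hI
    by_cases h : I.prod = z₀
    · have hc : Multiset.card I = 1 := by
        have hn := norm_prod_of s hs (Multiset.mem_powerset.1 hI)
        rw [h, hz] at hn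
        exact ((pow_right_injective₀ (zero_lt_one.trans hr) hr.ne') (hn.symm.trans (pow_one r).symm))
      obtain ⟨a, rfl⟩ := Multiset.card_eq_one.1 hc
      rw [Multiset.prod_singleton] at h
      subst h
      simp
    · rw [hF I hI h, mul_zero, if_neg]
      rintro rfl
      exact h (Multiset.prod_singleton _)
  rw [T, Multiset.map_congr rfl hg, SubsetProducts.powerset_eq_sum, Finset.sum_eq_single 1]
  · rw [Multiset.powersetCard_one, Multiset.map_map]
    simp only [Function.comp_def, Multiset.singleton_inj]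
    rw [sum_map_ite_eq']
    ring
  · intro j _ hj
    refine Multiset.sum_eq_zero fun x hx => ?_
    obtain ⟨I, hI, rfl⟩ := Multiset.mem_map.1 hx
    rw [if_neg]
    rintro rfl
    exact hj ((Multiset.mem_powersetCard.1 hI).2.symm.trans (Multiset.card_singleton _))
  · intro h
    simp only [Finset.mem_range, not_lt] at h
    rw [Multiset.powersetCard_eq_empty 1 (by omega)]
    rfl

theorem count_eq (s t : Multiset ℂ) {r : ℝ} (hr : 1 < r) (hs : ∀ a ∈ s, ‖a‖ = r) (ht : ∀ a ∈ t, ‖a‖ = r)
    (h : ∀ m, 1 ≤ m → (s.map fun a => 1 - a ^ m).prod = (t.map fun a => 1 - a ^ m).prod) (z₀ : ℂ) :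
    s.count z₀ = t.count z₀ := by
  classical
  by_cases hz : ‖z₀‖ = r
  swap
  · rw [Multiset.count_eq_zero_of_notMem fun hm => hz (hs _ hm), Multiset.count_eq_zero_of_notMem fun hm => hz (ht _ hm)]
  let W : Finset ℂ := (((s.powerset + t.powerset).map Multiset.prod).toFinset).erase z₀
  let p : Polynomial ℂ := Polynomial.X * ∏ w ∈ W, (Polynomial.X - Polynomial.C w)
  have hz0 : z₀ ≠ 0 := by
    intro h0
    rw [h0, norm_zero] at hz
    linarith
  have hp : p.eval z₀ ≠ 0 := by
    simp only [p, Polynomial.eval_mul, Polynomial.eval_X, Polynomial.eval_prod, Polynomial.eval_sub, Polynomial.eval_C]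
    exact mul_ne_zero hz0 (Finset.prod_ne_zero_iff.2 fun w hw => sub_ne_zero.2 (Finset.ne_of_mem_erase hw).symm)
  have hvan : ∀ I ∈ s.powerset + t.powerset, I.prod ≠ z₀ → p.eval I.prod = 0 := by
    intro I hI hne
    simp only [p, Polynomial.eval_mul, Polynomial.eval_X, Polynomial.eval_prod, Polynomial.eval_sub, Polynomial.eval_C]
    rw [Finset.prod_eq_zero (Finset.mem_erase.2 ⟨hne, Multiset.mem_toFinset.2 (Multiset.mem_map_of_mem _ hI)⟩)
      (sub_self _), mul_zero]
  have e : T s (fun z => p.eval z) = T t (fun z => p.eval z) := by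
    rw [T_eval, T_eval]
    refine Finset.sum_congr rfl fun i _ => ?_
    rcases Nat.eq_zero_or_pos i with rfl | hi
    · simp [p]
    · rw [T_pow, T_pow, h i hi]
  rw [T_test s hr hs hz _ (fun I hI hne => hvan I (Multiset.mem_add.2 (Or.inl hI)) hne),
    T_test t hr ht hz _ (fun I hI hne => hvan I (Multiset.mem_add.2 (Or.inr hI)) hne)] at e
  exact_mod_cast neg_injective (mul_right_cancel₀ hp e)

theorem eq_of_prod_one_sub_pow (s t : Multiset ℂ) {r : ℝ} (hr : 1 < r) (hs : ∀ a ∈ s, ‖a‖ = r)
    (ht : ∀ a ∈ t, ‖a‖ = r)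
    (h : ∀ m, 1 ≤ m → (s.map fun a => 1 - a ^ m).prod = (t.map fun a => 1 - a ^ m).prod) : s = t := by
  classical
  exact Multiset.ext.2 (count_eq s t hr hs ht h)

end Groth.Agent.H63.TateCor.Recover
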