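import Groth.Agent.H63.Intertwine
import Mathlib.LinearAlgebra.Semisimple

/-!
# Intertwiners separate points

* `exists_intertwiner`: semisimple operators, squarefree target, enough intertwiners
-/

set_option autoImplicit false

universe v w

open Polynomial UniqueFactorizationMonoid

noncomputable section

namespace Groth.Agent.H63.TateCor.Separate

variable {K : Type w} [Field K] {V W : Type v} [AddCommGroup V] [Module K V] [AddCommGroup W] [Module K W]
  [FiniteDimensional K V] [FiniteDimensional K W] (π₁ : Module.End K V) (π₂ : Module.End K W)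

theorem exists_intertwiner (h₁ : π₁.IsSemisimple) (h₂ : π₂.IsSemisimple) (hsf : Squarefree π₂.charpoly)
    (hdim : Module.finrank K V ≤ Module.finrank K (Intertwine.C π₁ π₂)) {x : V} (hx : x ≠ 0) :
    ∃ h ∈ Intertwine.C π₁ π₂, h x ≠ 0 := by
  classical
  by_contra hcon
  push_neg at hcon
  let p : Submodule K V := ⨅ h : Intertwine.C π₁ π₂, LinearMap.ker (h : V →ₗ[K] W)
  have hxp : x ∈ p := (Submodule.mem_iInf _).2 fun h => hcon h h.2
  have hp : p ∈ π₁.invtSubmodule := by
    rw [Module.End.mem_invtSubmodule]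
    intro y hy
    refine (Submodule.mem_iInf _).2 fun h => ?_
    rw [LinearMap.mem_ker, Intertwine.mem_C.1 h.2 y, LinearMap.mem_ker.1 ((Submodule.mem_iInf _).1 hy h), map_zero]
  obtain ⟨q, hq, hpq⟩ := Module.End.isSemisimple_iff.1 h₁ p hp
  have hsq := h₁.restrict hq
  have hle : Module.finrank K (Intertwine.C (π₁.restrict hq) π₂) ≤ Module.finrank K q := by
    rw [Intertwine.finrank_eq_sum _ π₂ hsq h₂]
    have hm := LinearMap.charpoly_monic (π₁.restrict hq)
    have hp' := prod_normalizedFactors_eq hm.ne_zero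
    rw [hm.normalize_eq_self] at hp'
    conv_rhs => rw [← LinearMap.charpoly_natDegree (π₁.restrict hq), ← hp',
      Polynomial.natDegree_multiset_prod _ (zero_notMem_normalizedFactors _), Finset.sum_multiset_map_count]
    refine Finset.sum_le_sum fun r _ => ?_
    rw [smul_eq_mul]
    have h1 : (normalizedFactors π₂.charpoly).count r ≤ 1 :=
      Multiset.nodup_iff_count_le_one.1
        ((squarefree_iff_nodup_normalizedFactors (LinearMap.charpoly_monic π₂).ne_zero).1 hsf) r
    exact Nat.mul_le_mul_right _ ((Nat.mul_le_mul_left _ h1).trans_eq (Nat.mul_one _))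
  let res : Intertwine.C π₁ π₂ →ₗ[K] Intertwine.C (π₁.restrict hq) π₂ :=
    { toFun := fun h => ⟨(h : V →ₗ[K] W).comp q.subtype, Intertwine.mem_C.2 fun v => Intertwine.mem_C.1 h.2 v.1⟩
      map_add' := fun _ _ => rfl
      map_smul' := fun _ _ => rfl }
  have hinj : Function.Injective res := by
    intro a b hab
    refine Subtype.ext (LinearMap.ext fun v => ?_)
    obtain ⟨y, hy, z, hz, rfl⟩ := Submodule.mem_sup.1 ((hpq.sup_eq_top).symm ▸ Submodule.mem_top : v ∈ p ⊔ q)
    have hyv : ∀ h : Intertwine.C π₁ π₂, (h : V →ₗ[K] W) y = 0 := fun h => LinearMap.mem_ker.1 ((Submodule.mem_iInf _).1 hy h)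
    rw [map_add, map_add, hyv, hyv]
    exact congrArg (fun w => (0 : W) + w) (LinearMap.congr_fun (congrArg Subtype.val hab) ⟨z, hz⟩)
  have h3 := (hdim.trans (LinearMap.finrank_le_finrank_of_injective hinj)).trans hle
  have h4 := Submodule.finrank_add_eq_of_isCompl hpq
  have h5 : Module.finrank K p = 0 := by omega
  exact hx ((Submodule.mem_bot K).1 (Submodule.finrank_eq_zero.1 h5 ▸ hxp))

end Groth.Agent.H63.TateCor.Separate
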