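import Groth.Agent.H63.TateCor.Basic
import Groth.Agent.H63.Tate.Reduce
import Groth.Agent.H63.Tate.Quotient

/-!
# The theorem of Tate in its Frobenius form

* `tateSpan`
-/

set_option autoImplicit false

universe u

open CategoryTheory MonoidalCategory CartesianMonoidalCategory AlgebraicGeometry
open scoped MonObj GrpObj

namespace Groth.Agent.H63.TateCor

/-- **Tate.** -/
theorem tateSpan {k Ω : Type u} [Field k] [Finite k] [Field Ω] [Algebra k Ω] [IsAlgClosure k Ω]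
    {l : ℕ} [Fact l.Prime] (hl : (l : k) ≠ 0) (A B : Over (Spec (CommRingCat.of k)))
    [GrpObj A] [IsCommMonObj A] [IsProper A.hom] [GeometricallyIntegral A.hom]
    [GrpObj B] [IsCommMonObj B] [IsProper B.hom] [GeometricallyIntegral B.hom] :
    TateSpan Ω l A B := by
  obtain ⟨l₀, hl₀p, hl₀, hl₀2, hsq⟩ : ∃ l₀ : ℕ, ∃ _ : Fact l₀.Prime, (l₀ : k) ≠ 0 ∧ l₀ ≠ 2 ∧ ∃ c, l₀ ∣ c ^ 2 + 1 := by
    by_cases h5 : ((5 : ℕ) : k) = 0
    · refine ⟨13, ⟨by norm_num⟩, fun h13 => one_ne_zero (α := k) ?_, by norm_num, 5, by norm_num⟩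
      have e : (1 : k) = 2 * ((13 : ℕ) : k) - 5 * ((5 : ℕ) : k) := by norm_num
      rw [e, h13, h5, mul_zero, mul_zero, sub_zero]
    · exact ⟨5, ⟨by norm_num⟩, h5, by norm_num, 2, by norm_num⟩
  haveI := hl₀p
  intro u hu
  refine Tate.Reduce.mem_span hl₀ hl₀2 (Tate.Quotient.allBd hl₀ hl₀2 hsq) hl A B u fun z m => ?_
  obtain ⟨π, -, -, -, hπ, hπm⟩ := Tate.FrobGal.exists_frob_galAct k Ω A
  haveI : IsMonHom π := hπm
  have hz : ∀ i, (AbDual.TateMod.component A l (SGA7.pt (K := k) Ω) i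
      (AbDual.tateMapₗ (l := l) (T := SGA7.pt (K := k) Ω) π z)).toMul =
      SGA7.galAct (Tate.FrobGal.frobΩ k Ω) (AbDual.TateMod.component A l (SGA7.pt (K := k) Ω) i z).toMul :=
    fun i => (hπ _).symm
  exact ⟨_, hz, hu z _ hz m⟩

end Groth.Agent.H63.TateCor
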